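import Mathlib
import Cfsg.Agent.Lib.PGroupAut.Semiregular

/-!
Counting tools: semiregular conjugation actions and divisibility of `r ^ k - 1`.
-/

set_option autoImplicit false

namespace Cfsg.Agent.Lib.OneNonlinear

open Subgroup
open scoped commutatorElement

/-- `r ^ k - 1` does not divide `(r ^ d - 1) (r ^ h - 1)` for `0 < d < k` and `0 < h ≤ k / 2`. -/
theorem false_of_dvd {r k d h : ℕ} (hr : 1 < r) (hd : 0 < d) (hdk : d < k) (hh : 0 < h)
    (hhk : h + h ≤ k) (hdvd : r ^ k - 1 ∣ (r ^ d - 1) * (r ^ h - 1)) : False := by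
  set g := k.gcd d with hgdef
  have hg : 0 < g := Nat.gcd_pos_of_pos_right _ hd
  have hgk : g + g ≤ k := by
    obtain ⟨c, hc⟩ := Nat.gcd_dvd_left k d
    rw [← hgdef] at hc
    have hgd : g ≤ d := Nat.le_of_dvd hd (Nat.gcd_dvd_right k d)
    have hc2 : 2 ≤ c := by
      by_contra hlt
      push Not at hlt
      interval_cases c <;> omega
    calc g + g = g * 2 := by ring
      _ ≤ g * c := Nat.mul_le_mul_left g hc2
      _ = k := hc.symm
  have h1 : r ^ k - 1 ∣ (r ^ g - 1) * (r ^ h - 1) := by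
    rw [hgdef, ← Nat.pow_sub_one_gcd_pow_sub_one, ← Nat.gcd_mul_right]
    exact Nat.dvd_gcd (dvd_mul_right _ _) hdvd
  have hx : 2 ≤ r ^ g := le_trans (by omega) (Nat.le_self_pow hg.ne' r)
  have hy : 2 ≤ r ^ h := le_trans (by omega) (Nat.le_self_pow hh.ne' r)
  have hxy : r ^ g * r ^ h ≤ r ^ k := by
    rw [← pow_add]; exact Nat.pow_le_pow_right (by omega) (by omega)
  have hle := Nat.le_of_dvd (Nat.mul_pos (by omega) (by omega)) h1
  obtain ⟨a, ha⟩ := Nat.exists_eq_add_of_le hx
  obtain ⟨b, hb⟩ := Nat.exists_eq_add_of_le hy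
  rw [ha, hb] at hxy
  rw [ha, hb, show 2 + a - 1 = a + 1 by omega, show 2 + b - 1 = b + 1 by omega] at hle
  have h2 : (2 + a) * (2 + b) = (a + 1) * (b + 1) + (a + b + 3) := by ring
  omega

variable {G : Type*} [Group G] [Finite G]

/-- If `B` normalises `W ≤ N` and elements outside the centralizer of the normal subgroup `N`
centralise no non-identity element of `N`, then `|B : C_B(N)|` divides `|W| - 1`. -/
theorem relIndex_dvd_card_sub_one (N W B : Subgroup G) [N.Normal] (hW : W ≤ N)
    (hB : B ≤ normalizer (W : Set G))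
    (hfree : ∀ a : G, ∀ v ∈ N, v ≠ 1 → a * v = v * a → a ∈ centralizer (N : Set G)) :
    (centralizer (N : Set G)).relIndex B ∣ Nat.card W - 1 := by
  haveI : ((centralizer (N : Set G)).subgroupOf B).Normal := inferInstance
  let φ₀ : B →* MulAut W := (normalizerMonoidHom W).comp (inclusion hB)
  have hφ₀ : ∀ (b : B) (v : W), ((φ₀ b v : W) : G) = (b : G) * v * (b : G)⁻¹ := fun _ _ => rfl
  have hker : (centralizer (N : Set G)).subgroupOf B ≤ φ₀.ker := by
    intro b hb
    rw [MonoidHom.mem_ker]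
    refine MulEquiv.ext fun v => Subtype.ext ?_
    rw [hφ₀]
    have := mem_centralizer_iff.mp (mem_subgroupOf.mp hb) v (hW v.2)
    show _ = (v : G)
    rw [← this, mul_inv_cancel_right]
  let φ : (B ⧸ (centralizer (N : Set G)).subgroupOf B) →* MulAut W :=
    QuotientGroup.lift _ φ₀ hker
  refine PGroupAut.card_dvd_card_group_sub_one φ fun q hq v hv => ?_
  induction q using QuotientGroup.induction_on with | H b => ?_
  by_contra hv1
  refine hq ((QuotientGroup.eq_one_iff b).mpr (mem_subgroupOf.mpr ?_))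
  refine hfree b v (hW v.2) (fun h => hv1 (Subtype.ext h)) ?_
  have h1 : (b : G) * v * (b : G)⁻¹ = v := by rw [← hφ₀]; exact congrArg Subtype.val hv
  exact mul_inv_eq_iff_eq_mul.mp h1

/-- A normal subgroup with abelian conjugation action and no proper non-trivial normal subgroup
is acted on semiregularly. -/
theorem free_of_minimal (N : Subgroup G) [N.Normal]
    (hab : commutator G ≤ centralizer (N : Set G))
    (hmin : ∀ V : Subgroup G, V.Normal → V ≤ N → V = ⊥ ∨ V = N) :
    ∀ a : G, ∀ v ∈ N, v ≠ 1 → a * v = v * a → a ∈ centralizer (N : Set G) := by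
  intro a v hv hv1 hav
  have hnorm : (N ⊓ centralizer ({a} : Set G)).Normal := by
    refine ⟨fun w hw c => ?_⟩
    obtain ⟨hwN, hwa⟩ := mem_inf.mp hw
    have hN : N.Normal := inferInstance
    refine mem_inf.mpr ⟨hN.conj_mem w hwN c, mem_centralizer_singleton_iff.mpr ?_⟩
    have hwa' := mem_centralizer_singleton_iff.mp hwa
    have hd : ⁅c⁻¹, a⁆ ∈ centralizer (N : Set G) :=
      hab (commutator_mem_commutator (mem_top _) (mem_top _))
    have hd' := mem_centralizer_iff.mp hd w hwN
    rw [commutatorElement_def, inv_inv] at hd'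
    have key : w * (c⁻¹ * a * c) = c⁻¹ * a * c * w := by
      calc w * (c⁻¹ * a * c) = (w * (c⁻¹ * a * c * a⁻¹)) * a := by group
        _ = c⁻¹ * a * c * a⁻¹ * (w * a) := by rw [hd']; group
        _ = c⁻¹ * a * c * w := by rw [hwa']; group
    calc c * w * c⁻¹ * a = c * (w * (c⁻¹ * a * c)) * c⁻¹ := by group
      _ = a * (c * w * c⁻¹) := by rw [key]; group
  rcases hmin _ hnorm inf_le_left with h | h
  · exact absurd (mem_bot.mp (h ▸ mem_inf.mpr ⟨hv, mem_centralizer_singleton_iff.mpr hav.symm⟩))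
      hv1
  · rw [mem_centralizer_iff]
    intro w hw
    have hw' : w ∈ N ⊓ centralizer ({a} : Set G) := h.symm ▸ hw
    exact mem_centralizer_singleton_iff.mp (mem_inf.mp hw').2

omit [Finite G] in
theorem card_mul_relIndex {K N : Subgroup G} (h : K ≤ N) :
    Nat.card K * K.relIndex N = Nat.card N := by
  rw [relIndex, ← Nat.card_congr (subgroupOfEquivOfLe h).toEquiv]
  exact card_mul_index _

end Cfsg.Agent.Lib.OneNonlinear
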