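import Mathlib
import Cfsg.Agent.Lib.OneNonlinear.Arith
import Cfsg.Agent.Lib.Coprime.Basic
import Cfsg.Agent.Lib.RankOnePush.Structure

/-!
A normal `r`-subgroup `N` with `N' = K`, all `G`-classes in `N ∖ K` equal and abelian `G / N`,
in which every class of `N` outside `K` is a coset of `K`, has class at most two.
-/

set_option autoImplicit false

namespace Cfsg.Agent.Lib.OneNonlinear

open Subgroup
open scoped commutatorElement

variable {G : Type*} [Group G] [Finite G]

/-- The hypotheses. -/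
structure Setup (r : ℕ) (N K : Subgroup G) : Prop where
  norN : N.Normal
  norK : K.Normal
  pgrp : IsPGroup r N
  comm : commutator G ≤ N
  derived : ⁅N, N⁆ = K
  lt : K < N
  pow : ∀ x ∈ N, x ^ r ∈ K
  coset : ∀ x ∈ N, x ∉ K → ∀ n ∈ K, ∃ a ∈ N, a * x * a⁻¹ = x * n
  trans : ∀ x ∈ N, x ∉ K → ∀ y ∈ N, y ∉ K → IsConj x y

variable {r : ℕ} {N K : Subgroup G}

/-- A subgroup of `K` centralised by `N` is smaller than `N / K`. -/
theorem Setup.card_lt (h : Setup r N K) {Z : Subgroup G} (hZ : Z ≤ K)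
    (hc : Z ≤ centralizer (N : Set G)) : Nat.card Z < K.relIndex N := by
  obtain ⟨x, hxN, hxK⟩ := SetLike.exists_of_lt h.lt
  let C : Subgroup G := N ⊓ centralizer ({x} : Set G)
  have hCle : Nat.card C ≤ K.relIndex N := by
    choose f hfN hf using fun n : K => h.coset x hxN hxK n n.2
    refine Nat.le_of_mul_le_mul_left ?_ (Nat.card_pos (α := K))
    rw [card_mul_relIndex h.lt.le, ← Nat.card_prod]
    refine Nat.card_le_card_of_injective
      (fun a : K × C => (⟨f a.1 * a.2, mul_mem (hfN a.1) (mem_inf.mp a.2.2).1⟩ : N)) ?_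
    rintro ⟨n, c⟩ ⟨n', c'⟩ he
    have he' : f n * (c : G) = f n' * (c' : G) := congrArg Subtype.val he
    have hconj : ∀ (m : K) (d : C), f m * (d : G) * x * (f m * (d : G))⁻¹ = x * m := fun m d => by
      rw [mul_assoc (f m) (d : G) x, mem_centralizer_singleton_iff.mp (mem_inf.mp d.2).2, ← hf m]
      group
    have hn : n = n' := Subtype.ext (mul_left_cancel (a := x) (by
      rw [← hconj n c, ← hconj n' c', he']))
    subst hn
    exact Prod.ext rfl (Subtype.ext (mul_left_cancel he'))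
  refine lt_of_lt_of_le ?_ hCle
  have hle : Z ≤ C := le_inf (hZ.trans h.lt.le) fun z hz => by
    rw [mem_centralizer_singleton_iff]
    exact (mem_centralizer_iff.mp (hc hz) x hxN).symm
  refine lt_of_le_of_ne (Nat.le_of_dvd Nat.card_pos (card_dvd_of_le hle)) fun he => hxK (hZ ?_)
  rw [Subgroup.eq_of_le_of_card_ge hle he.ge]
  exact mem_inf.mpr ⟨hxN, mem_centralizer_singleton_iff.mpr rfl⟩

/-- The hypotheses pass to quotients. -/
theorem Setup.map (h : Setup r N K) {H : Type*} [Group H] [Finite H] (f : G →* H)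
    (hf : Function.Surjective f) (hker : f.ker ≤ K) : Setup r (N.map f) (K.map f) := by
  have hmem : ∀ x, f x ∈ K.map f → x ∈ K := by
    rintro x ⟨y, hy, hyx⟩
    have : y⁻¹ * x ∈ K := hker (by rw [MonoidHom.mem_ker, map_mul, map_inv, hyx, inv_mul_cancel])
    simpa using mul_mem hy this
  refine ⟨h.norN.map f hf, h.norK.map f hf, h.pgrp.map f, ?_, ?_, ?_, ?_, ?_, ?_⟩
  · rw [_root_.commutator_def, ← map_top_of_surjective f hf, ← map_commutator]
    exact map_mono h.comm
  · rw [← map_commutator, h.derived]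
  · refine lt_of_le_of_ne (map_mono h.lt.le) fun he => ?_
    obtain ⟨x, hxN, hxK⟩ := SetLike.exists_of_lt h.lt
    exact hxK (hmem x (he ▸ mem_map_of_mem f hxN))
  · rintro _ ⟨x, hx, rfl⟩
    rw [← map_pow]
    exact mem_map_of_mem f (h.pow x hx)
  · rintro _ ⟨x, hx, rfl⟩ hxK _ ⟨n, hn, rfl⟩
    obtain ⟨a, ha, hax⟩ := h.coset x hx (fun hk => hxK (mem_map_of_mem f hk)) n hn
    exact ⟨f a, mem_map_of_mem f ha, by rw [← map_inv, ← map_mul, ← map_mul, hax, map_mul]⟩
  · rintro _ ⟨x, hx, rfl⟩ hxK _ ⟨y, hy, rfl⟩ hyK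
    exact f.map_isConj (h.trans x hx (fun hk => hxK (mem_map_of_mem f hk)) y hy
      (fun hk => hyK (mem_map_of_mem f hk)))

theorem commutator_commutator_eq_bot_of {A B : Subgroup G} (h : ⁅A, B⁆ = ⊥) :
    A ≤ centralizer (B : Set G) := commutator_eq_bot_iff_le_centralizer.mp h

/-- The main step: if `[K, N, N] = 1` then `[K, N] = 1`. -/
theorem Setup.step [hr : Fact r.Prime] (h : Setup r N K) (h3 : ⁅⁅K, N⁆, N⁆ = ⊥) :
    ⁅K, N⁆ = ⊥ := by
  haveI := h.norN
  haveI := h.norK
  let L : Subgroup G := ⁅K, N⁆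
  haveI hLn : L.Normal := commutator_normal K N
  have hLK : L ≤ K := commutator_le_left K N
  have hLc : L ≤ centralizer (N : Set G) := commutator_commutator_eq_bot_of h3
  have hLlt : Nat.card L < K.relIndex N := h.card_lt hLK hLc
  -- `|K : L|` is small as well
  have hKLlt : L.relIndex K < K.relIndex N := by
    have hq := h.map (QuotientGroup.mk' L) (QuotientGroup.mk'_surjective L)
      (by rwa [QuotientGroup.ker_mk'])
    have hlt := hq.card_lt (Z := K.map (QuotientGroup.mk' L)) le_rfl (by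
      rw [← commutator_eq_bot_iff_le_centralizer, ← map_commutator, Subgroup.map_eq_bot_iff,
        QuotientGroup.ker_mk'])
    rw [relIndex_map_map, QuotientGroup.ker_mk', sup_eq_left.mpr hLK,
      sup_eq_left.mpr (hLK.trans h.lt.le)] at hlt
    rw [← relIndex_ker, QuotientGroup.ker_mk'] at hlt
    exact hlt
  let Z₀ : Subgroup G := K ⊓ centralizer (N : Set G)
  haveI : Z₀.Normal := inferInstance
  by_contra hne
  have hZK : Z₀ < K := lt_of_le_of_ne inf_le_left fun he => hne
    (commutator_eq_bot_iff_le_centralizer.mpr (he ▸ inf_le_right))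
  have hLZ : L ≤ Z₀ := le_inf hLK hLc
  obtain ⟨U, ⟨hUn, hZU, hUK⟩, hUmin⟩ := (Set.toFinite {U : Subgroup G | U.Normal ∧ Z₀ < U ∧ U ≤ K})
    |>.exists_minimal ⟨K, h.norK, hZK, le_rfl⟩
  haveI := hUn
  obtain ⟨y, hyU, hyZ⟩ := SetLike.exists_of_lt hZU
  -- the action on `U / Z₀`
  obtain ⟨π, hπ⟩ : ∃ π, π = QuotientGroup.mk' Z₀ := ⟨_, rfl⟩
  have hπs : Function.Surjective π := hπ ▸ QuotientGroup.mk'_surjective Z₀
  have hπk : π.ker = Z₀ := hπ ▸ QuotientGroup.ker_mk' Z₀
  haveI : (U.map π).Normal := hUn.map π hπs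
  have hNc : N.map π ≤ centralizer ((U.map π : Subgroup (G ⧸ Z₀)) : Set (G ⧸ Z₀)) := by
    rw [← commutator_eq_bot_iff_le_centralizer, ← map_commutator, Subgroup.map_eq_bot_iff, hπk,
      commutator_comm]
    exact (commutator_mono hUK le_rfl).trans hLZ
  have hab : commutator (G ⧸ Z₀) ≤ centralizer ((U.map π : Subgroup (G ⧸ Z₀)) : Set (G ⧸ Z₀)) := by
    rw [_root_.commutator_def, ← map_top_of_surjective π hπs, ← map_commutator]
    exact (map_mono h.comm).trans hNc
  have hfreeU := free_of_minimal (U.map π) hab (fun V hV hVU => by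
    have hle : Z₀ ≤ V.comap π := hπk.symm.le.trans (ker_le_comap π V)
    have hle2 : V.comap π ≤ U := by
      refine (comap_mono hVU).trans ?_
      rw [comap_map_eq, hπk, sup_eq_left.mpr hZU.le]
    rcases eq_or_lt_of_le hle with he | hlt
    · left
      rw [← map_comap_eq_self_of_surjective hπs V, ← he, Subgroup.map_eq_bot_iff, hπk]
    · right
      refine le_antisymm hVU ?_
      rw [← map_comap_eq_self_of_surjective hπs V]
      exact map_mono (hUmin ⟨hV.comap π, hlt, hle2.trans hUK⟩ hle2))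
  have hd1 := relIndex_dvd_card_sub_one (U.map π) (U.map π) ⊤ le_rfl
    (by rw [normalizer_eq_top]) hfreeU
  rw [relIndex_top_right, ← index_comap_of_surjective _ hπs, ← relIndex_ker, hπk] at hd1
  obtain ⟨B, hB⟩ : ∃ B, B = (centralizer ((U.map π : Subgroup (G ⧸ Z₀)) : Set (G ⧸ Z₀))).comap π :=
    ⟨_, rfl⟩
  rw [← hB] at hd1
  have hBy : ∀ s ∈ B, y⁻¹ * (s * y * s⁻¹) ∈ Z₀ := by
    intro s hs
    rw [hB, mem_comap, mem_centralizer_iff] at hs
    rw [← hπk, MonoidHom.mem_ker, map_mul, map_mul, map_mul, map_inv, map_inv, inv_mul_eq_one,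
      eq_mul_inv_iff_mul_eq]
    exact hs _ (mem_map_of_mem π hyU)
  have hNB : N ≤ B := hB ▸ (map_le_iff_le_comap.mp hNc)
  haveI hBn : B.Normal := by
    refine ⟨fun s hs c => ?_⟩
    have := mul_mem (hNB (h.comm (commutator_mem_commutator (mem_top c) (mem_top s)))) hs
    rw [commutatorElement_def] at this
    simpa [mul_assoc] using this
  -- the centralizer of `y` in `N`
  have hyN : y ∈ N := h.lt.le (hUK hyU)
  let V : Subgroup G := N ⊓ centralizer ({y} : Set G)
  have hKK : ⁅K, K⁆ = ⊥ := by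
    conv_lhs => arg 1; rw [← h.derived]
    exact commutator_commutator_eq_bot_of_rotate (by rw [commutator_comm N K]; exact h3) h3
  have hKV : K ≤ V := le_inf h.lt.le fun k hk => by
    rw [mem_centralizer_singleton_iff]
    exact (mem_centralizer_iff.mp (commutator_commutator_eq_bot_of hKK hk) y (hUK hyU)).symm
  have hVN : V ≠ N := by
    intro he
    refine hyZ (mem_inf.mpr ⟨hUK hyU, mem_centralizer_iff.mpr fun v hv => ?_⟩)
    have hv' : v ∈ V := he.symm ▸ hv
    exact mem_centralizer_singleton_iff.mp (mem_inf.mp hv').2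
  have hVind : V.relIndex N ≤ Nat.card L := by
    have hl : ∀ v : N, ⁅(v : G), y⁆ ∈ L := fun v => by
      rw [show ⁅(v : G), y⁆ = ⁅y, (v : G)⁆⁻¹ from (commutatorElement_inv y (v : G)).symm]
      exact inv_mem (commutator_mem_commutator (hUK hyU) v.2)
    rw [relIndex, index]
    refine Nat.card_le_card_of_injective (Quotient.lift (fun v : N => (⟨⁅(v : G), y⁆, hl v⟩ : L))
      fun a b hab => Subtype.ext ?_) ?_
    · have hab' := (mem_inf.mp (mem_subgroupOf.mp (QuotientGroup.leftRel_apply.mp hab))).2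
      rw [mem_centralizer_singleton_iff, coe_mul, coe_inv] at hab'
      show ⁅(a : G), y⁆ = ⁅(b : G), y⁆
      simp only [commutatorElement_def]
      congr 1
      calc (a : G) * y * (a : G)⁻¹ = (a : G) * (y * ((a : G)⁻¹ * b)) * (b : G)⁻¹ := by group
        _ = (a : G) * (((a : G)⁻¹ * b) * y) * (b : G)⁻¹ := by rw [hab']
        _ = _ := by group
    · intro a b hab
      induction a using Quotient.inductionOn with | h a => ?_
      induction b using Quotient.inductionOn with | h b => ?_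
      have hab' : (a : G) * y * (a : G)⁻¹ * y⁻¹ = (b : G) * y * (b : G)⁻¹ * y⁻¹ :=
        congrArg Subtype.val hab
      refine Quotient.sound (QuotientGroup.leftRel_apply.mpr (mem_subgroupOf.mpr (mem_inf.mpr
        ⟨((a⁻¹ * b : N)).2, ?_⟩)))
      rw [mem_centralizer_singleton_iff, coe_mul, coe_inv]
      calc (a : G)⁻¹ * b * y = (a : G)⁻¹ * ((b : G) * y * (b : G)⁻¹) * b := by group
        _ = (a : G)⁻¹ * ((a : G) * y * (a : G)⁻¹) * b := by rw [mul_right_cancel hab']
        _ = _ := by group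
  have hVK : K < V := lt_of_le_of_ne hKV fun he => by
    rw [← he] at hVind; omega
  have hBV : ∀ s ∈ B, ∀ v ∈ V, s * v * s⁻¹ ∈ V := by
    intro s hs v hv
    obtain ⟨hvN, hvy⟩ := mem_inf.mp hv
    refine mem_inf.mpr ⟨h.norN.conj_mem v hvN s, mem_centralizer_singleton_iff.mpr ?_⟩
    have hz := (mem_inf.mp (hBy s hs)).2
    have hzc := mem_centralizer_iff.mp hz _ (h.norN.conj_mem v hvN s)
    have hvy' := mem_centralizer_singleton_iff.mp hvy
    set z := y⁻¹ * (s * y * s⁻¹) with hzdef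
    have hy' : s * y * s⁻¹ = y * z := by rw [hzdef, mul_inv_cancel_left]
    have h1 : s * v * s⁻¹ * (y * z) = y * z * (s * v * s⁻¹) := by
      rw [← hy']
      calc s * v * s⁻¹ * (s * y * s⁻¹) = s * (v * y) * s⁻¹ := by group
        _ = s * y * s⁻¹ * (s * v * s⁻¹) := by rw [hvy']; group
    calc s * v * s⁻¹ * y = s * v * s⁻¹ * (y * z) * z⁻¹ := by group
      _ = y * (z * (s * v * s⁻¹)) * z⁻¹ := by rw [h1]; group
      _ = y * (s * v * s⁻¹) := by rw [← hzc]; group
  -- in `G / K`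
  obtain ⟨ρ, hρ⟩ : ∃ ρ, ρ = QuotientGroup.mk' K := ⟨_, rfl⟩
  have hρs : Function.Surjective ρ := hρ ▸ QuotientGroup.mk'_surjective K
  have hρk : ρ.ker = K := hρ ▸ QuotientGroup.ker_mk' K
  have hρ1 : ∀ {x}, ρ x = 1 ↔ x ∈ K := fun {x} => by rw [← MonoidHom.mem_ker, hρk]
  haveI : (N.map ρ).Normal := h.norN.map ρ hρs
  have hNab : N.map ρ ≤ centralizer ((N.map ρ : Subgroup (G ⧸ K)) : Set (G ⧸ K)) := by
    rw [← commutator_eq_bot_iff_le_centralizer, ← map_commutator, Subgroup.map_eq_bot_iff, hρk,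
      h.derived]
  have hmin : ∀ W : Subgroup (G ⧸ K), W.Normal → W ≤ N.map ρ → W = ⊥ ∨ W = N.map ρ := by
    intro W hW hWN
    by_cases hW1 : W = ⊥
    · exact Or.inl hW1
    refine Or.inr (le_antisymm hWN ?_)
    obtain ⟨w, hw, hw1⟩ := W.bot_or_exists_ne_one.resolve_left hW1
    rintro _ ⟨x, hx, rfl⟩
    by_cases hxK : x ∈ K
    · rw [hρ1.mpr hxK]; exact one_mem W
    · obtain ⟨v, hv, rfl⟩ := hWN hw
      obtain ⟨c, rfl⟩ := isConj_iff.mp (h.trans v hv (fun hk => hw1 (hρ1.mpr hk)) x hx hxK)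
      rw [map_mul, map_mul, map_inv]
      exact hW.conj_mem _ hw _
  have hfreeN := free_of_minimal (N.map ρ) (by
    rw [_root_.commutator_def, ← map_top_of_surjective ρ hρs, ← map_commutator]
    exact (map_mono h.comm).trans hNab) hmin
  obtain ⟨C, hC⟩ : ∃ C, C = centralizer ((N.map ρ : Subgroup (G ⧸ K)) : Set (G ⧸ K)) := ⟨_, rfl⟩
  -- `|G : C| = |N : K| - 1`
  have hCindex : K.relIndex N - 1 ∣ C.index := by
    obtain ⟨x, hxN, hxK⟩ := SetLike.exists_of_lt h.lt
    have hd := relIndex_dvd_card_sub_one (N.map ρ) (N.map ρ) ⊤ le_rfl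
      (by rw [normalizer_eq_top]) hfreeN
    rw [relIndex_top_right, ← hC, ← relIndex_ker, hρk] at hd
    have hle : K.relIndex N - 1 ≤ C.index := by
      have hxc : ∀ c : G ⧸ K, c ∈ C → c * ρ x = ρ x * c := fun c hc =>
        (mem_centralizer_iff.mp (hC ▸ hc) _ (mem_map_of_mem ρ hxN)).symm
      let φ : (G ⧸ K) ⧸ C → G ⧸ K := Quotient.lift (fun c => c * ρ x * c⁻¹) fun a b hab => by
        have := hxc _ (QuotientGroup.leftRel_apply.mp hab)
        calc a * ρ x * a⁻¹ = a * (ρ x * (a⁻¹ * b)) * b⁻¹ := by group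
          _ = a * ((a⁻¹ * b) * ρ x) * b⁻¹ := by rw [this]
          _ = b * ρ x * b⁻¹ := by group
      have hsub : ((N.map ρ : Subgroup (G ⧸ K)) : Set (G ⧸ K)) \ {1} ⊆ Set.range φ := by
        rintro _ ⟨⟨z, hz, rfl⟩, hz1⟩
        obtain ⟨c, hc⟩ := isConj_iff.mp (h.trans x hxN hxK z hz fun hk => hz1 (hρ1.mpr hk))
        exact ⟨QuotientGroup.mk (ρ c), by rw [← hc, map_mul, map_mul, map_inv]; rfl⟩
      have h1 := Set.ncard_le_ncard hsub
      rw [Set.ncard_sdiff (by rw [Set.singleton_subset_iff]; exact one_mem _), Set.ncard_singleton, ← Nat.card_coe_set_eq,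
        ← Nat.card_coe_set_eq] at h1
      have h2 : Nat.card (N.map ρ) = K.relIndex N := by rw [← relIndex_ker, hρk]
      rw [← h2]
      exact h1.trans (Finite.card_range_le φ)
    exact (le_antisymm hle (Nat.le_of_dvd (by
      have := h.card_lt (Z := ⊥) bot_le bot_le
      rw [card_bot] at this
      omega) hd)) ▸ dvd_rfl
  -- a minimal `B`-invariant subgroup of `V / K`
  obtain ⟨W, ⟨hW1, hWV, hWB⟩, hWmin⟩ := (Set.toFinite
    {W : Subgroup (G ⧸ K) | W ≠ ⊥ ∧ W ≤ V.map ρ ∧ B.map ρ ≤ normalizer (W : Set (G ⧸ K))})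
    |>.exists_minimal ⟨V.map ρ, by
      rw [Ne, Subgroup.map_eq_bot_iff, hρk]; exact fun hle => hVK.not_ge hle, le_rfl, by
      rintro _ ⟨s, hs, rfl⟩
      rw [mem_normalizer_iff]
      intro v
      constructor
      · rintro ⟨v, hv, rfl⟩
        exact ⟨_, hBV s hs v hv, by rw [map_mul, map_mul, map_inv]⟩
      · rintro ⟨v', hv', he⟩
        refine ⟨_, hBV s⁻¹ (inv_mem hs) v' hv', ?_⟩
        rw [map_mul, map_mul, map_inv, inv_inv, he]
        group⟩
  have hWN : W ≤ N.map ρ := hWV.trans (map_mono inf_le_left)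
  have hd2 := relIndex_dvd_card_sub_one (N.map ρ) W (B.map ρ) hWN hWB hfreeN
  rw [← hC] at hd2
  haveI : (B.map ρ).Normal := hBn.map ρ hρs
  obtain ⟨a, ha⟩ : ∃ a : G ⧸ K, W ⊓ W.map (MulAut.conj a).toMonoidHom = ⊥ := by
    by_contra hcon
    push Not at hcon
    have hWn : W.Normal := ⟨fun w hw a => by
      have hinv : B.map ρ ≤ normalizer ((W ⊓ W.map (MulAut.conj a).toMonoidHom :
          Subgroup (G ⧸ K)) : Set (G ⧸ K)) := by
        intro s hs
        rw [mem_normalizer_iff]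
        have key : ∀ t ∈ B.map ρ, ∀ v ∈ W ⊓ W.map (MulAut.conj a).toMonoidHom,
            t * v * t⁻¹ ∈ W ⊓ W.map (MulAut.conj a).toMonoidHom := by
          rintro t ht v ⟨hv1, u, hu, rfl⟩
          refine ⟨(mem_normalizer_iff.mp (hWB ht) _).mp hv1, a⁻¹ * t * a * u * (a⁻¹ * t * a)⁻¹, ?_, ?_⟩
          · refine (mem_normalizer_iff.mp (hWB ?_) _).mp hu
            simpa using (inferInstance : (B.map ρ).Normal).conj_mem t ht a⁻¹
          · simp [MulAut.conj_apply, mul_assoc]
        intro v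
        refine ⟨key s hs v, fun hv => ?_⟩
        simpa [mul_assoc] using key s⁻¹ (inv_mem hs) _ hv
      have hle := hWmin ⟨hcon a, inf_le_left.trans hWV, hinv⟩ inf_le_left
      have heq : W.map (MulAut.conj a).toMonoidHom = W :=
        (Subgroup.eq_of_le_of_card_ge (hle.trans inf_le_right) (by
          rw [card_map_of_injective (f := (MulAut.conj a).toMonoidHom) (MulAut.conj a).injective])).symm
      rw [← heq]
      exact ⟨w, hw, rfl⟩⟩
    rcases hmin W hWn hWN with h' | h'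
    · exact hW1 h'
    · refine hVN (le_antisymm inf_le_left fun x hx => ?_)
      obtain ⟨v, hv, hvx⟩ := hWV (h' ▸ mem_map_of_mem ρ hx : ρ x ∈ W)
      have : v⁻¹ * x ∈ K := hρ1.mp (by rw [map_mul, map_inv, hvx, inv_mul_cancel])
      simpa using mul_mem hv (hKV this)
  have hsq : Nat.card W * Nat.card W ≤ K.relIndex N := by
    nth_rw 2 [← card_map_of_injective (K := W) (f := (MulAut.conj a).toMonoidHom) (MulAut.conj a).injective]
    rw [show K.relIndex N = Nat.card (N.map ρ) by rw [← relIndex_ker, hρk], ← Nat.card_prod]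
    refine Nat.card_le_card_of_injective
      (fun p : W × (W.map (MulAut.conj a).toMonoidHom) => (⟨p.1 * p.2,
        mul_mem (hWN p.1.2) (by
          obtain ⟨u, hu, he⟩ := p.2.2
          rw [← he]
          exact (inferInstance : (N.map ρ).Normal).conj_mem u (hWN hu) a)⟩ : N.map ρ)) ?_
    rintro ⟨p, q⟩ ⟨p', q'⟩ he
    have he' : (p : G ⧸ K) * q = p' * q' := congrArg Subtype.val he
    have hin : (p' : G ⧸ K)⁻¹ * p ∈ W ⊓ W.map (MulAut.conj a).toMonoidHom := by
      refine mem_inf.mpr ⟨mul_mem (inv_mem p'.2) p.2, ?_⟩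
      rw [show (p' : G ⧸ K)⁻¹ * p = q' * (q : G ⧸ K)⁻¹ by
        rw [eq_mul_inv_iff_mul_eq, mul_assoc, he', inv_mul_cancel_left]]
      exact mul_mem q'.2 (inv_mem q.2)
    rw [ha, mem_bot, inv_mul_eq_one] at hin
    rw [← hin] at he'
    exact Prod.ext (Subtype.ext hin.symm) (Subtype.ext (mul_left_cancel he'))
  -- combine the divisibilities
  have hdvd : K.relIndex N - 1 ∣ (Z₀.relIndex U - 1) * (Nat.card W - 1) := by
    have hBK : K ≤ B := h.lt.le.trans hNB
    have h1 : C.index ∣ B.index * (C.comap ρ).relIndex B := by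
      rw [← index_comap_of_surjective C hρs, mul_comm, ← inf_relIndex_right,
        relIndex_mul_index inf_le_right]
      exact index_dvd_of_le inf_le_left
    rw [relIndex_comap] at h1
    exact hCindex.trans (h1.trans (Nat.mul_dvd_mul hd1 hd2))
  have hNK : IsPGroup r (N.map ρ) := h.pgrp.map ρ
  obtain ⟨k, hk⟩ := IsPGroup.iff_card.mp hNK
  obtain ⟨e, he⟩ := IsPGroup.iff_card.mp (hNK.to_le hWN)
  obtain ⟨d, hd⟩ := IsPGroup.iff_card.mp ((h.pgrp.to_le (hUK.trans h.lt.le)).map π)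
  have hkN : K.relIndex N = r ^ k := by rw [← hk, ← relIndex_ker, hρk]
  have hdU : Z₀.relIndex U = r ^ d := by rw [← hd, ← relIndex_ker, hπk]
  have hUlt : Z₀.relIndex U < K.relIndex N :=
    lt_of_le_of_lt ((relIndex_le_of_le_left hLZ index_ne_zero_of_finite).trans
      (relIndex_le_of_le_right hUK index_ne_zero_of_finite)) hKLlt
  rw [hdU, he, hkN] at hdvd
  rw [he, hkN, ← pow_add] at hsq
  rw [hdU, hkN] at hUlt
  refine false_of_dvd hr.out.one_lt ?_ ((Nat.pow_lt_pow_iff_right hr.out.one_lt).mp hUlt) ?_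
    ((Nat.pow_le_pow_iff_right hr.out.one_lt).mp hsq) hdvd
  · refine Nat.pos_of_ne_zero fun hd0 => hZU.not_ge ?_
    rw [hd0, pow_zero] at hdU
    exact relIndex_eq_one.mp hdU
  · refine Nat.pos_of_ne_zero fun he0 => hW1 ?_
    rw [he0, pow_zero] at he
    exact eq_bot_of_card_eq W he

/-- `K` is central in `N`. -/
theorem Setup.commutator_eq_bot [hr : Fact r.Prime] (h : Setup r N K) : ⁅K, N⁆ = ⊥ := by
  haveI := h.norN
  haveI := h.norK
  by_contra hne
  have hM : (⁅⁅K, N⁆, N⁆ : Subgroup G).Normal := inferInstance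
  have hLK : ⁅K, N⁆ ≤ K := commutator_le_left K N
  have hlt : ⁅⁅K, N⁆, N⁆ < ⁅K, N⁆ := Coprime.commutator_lt_of_isPGroup
    (h.pgrp.to_le (hLK.trans h.lt.le)) h.pgrp (by rw [normalizer_eq_top]; exact le_top) hne
  have hq := h.map (QuotientGroup.mk' ⁅⁅K, N⁆, N⁆) (QuotientGroup.mk'_surjective _)
    (by rw [QuotientGroup.ker_mk']; exact hlt.le.trans hLK)
  have := hq.step (by
    rw [← map_commutator, ← map_commutator, Subgroup.map_eq_bot_iff, QuotientGroup.ker_mk'])
  rw [← map_commutator, Subgroup.map_eq_bot_iff, QuotientGroup.ker_mk'] at this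
  exact hlt.not_ge this

/-- For odd `r` some element outside `K` has order `r`. -/
theorem Setup.exists_pow_eq_one [hr : Fact r.Prime] (h : Setup r N K) (hr2 : r ≠ 2) :
    ∃ x ∈ N, x ∉ K ∧ x ^ r = 1 := by
  haveI := h.norN
  have hc := commutator_eq_bot_iff_le_centralizer.mp h.commutator_eq_bot
  by_contra hcon
  push Not at hcon
  have hpow : ∀ a ∈ N, ∀ b ∈ N, (a * b) ^ r = a ^ r * b ^ r := by
    intro a ha b hb
    have hcK : ⁅b, a⁆ ∈ K := h.derived ▸ commutator_mem_commutator hb ha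
    have hcN := mem_centralizer_iff.mp (hc hcK)
    rw [RankOnePush.mul_pow_of_comm (hcN a ha).symm (hcN b hb).symm]
    have h1 : ⁅b, a⁆ ^ r = 1 := by
      have hbr : ∀ n : ℕ, ⁅b ^ n, a⁆ = ⁅b, a⁆ ^ n := by
        intro n
        induction n with
        | zero => simp
        | succ n ih =>
          rw [pow_succ b, commutatorElement_def, pow_succ (⁅b, a⁆)]
          have e := (hcN (b ^ n) (pow_mem hb n))
          rw [← ih, show b ^ n * b * a * (b ^ n * b)⁻¹ * a⁻¹ =
            b ^ n * ⁅b, a⁆ * (b ^ n)⁻¹ * ⁅b ^ n, a⁆ by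
              simp only [commutatorElement_def]; group, e, mul_inv_cancel_right]
          have hn : ⁅b ^ n, a⁆ ∈ N :=
            mul_mem (mul_mem (mul_mem (pow_mem hb n) ha) (inv_mem (pow_mem hb n))) (inv_mem ha)
          exact (hcN _ hn).symm
      rw [← hbr, commutatorElement_eq_one_iff_mul_comm]
      exact (mem_centralizer_iff.mp (hc (h.pow b hb)) a ha).symm
    obtain ⟨c, hc'⟩ : r ∣ r.choose 2 :=
      hr.out.dvd_choose_self (by omega) (lt_of_le_of_ne hr.out.two_le (Ne.symm hr2))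
    rw [hc', pow_mul, h1, one_pow, one_mul]
  let f : N →* K := MonoidHom.mk' (fun x => ⟨(x : G) ^ r, h.pow x x.2⟩)
    fun a b => Subtype.ext (hpow a a.2 b b.2)
  have hker : f.ker ≤ K.subgroupOf N := by
    intro x hx
    by_contra hxK
    exact hcon x x.2 hxK (congrArg Subtype.val (MonoidHom.mem_ker.mp hx))
  have h1 : Nat.card N ≤ Nat.card K * Nat.card K := by
    rw [← card_mul_index f.ker, index_ker]
    refine Nat.mul_le_mul ?_ (Nat.le_of_dvd Nat.card_pos (card_subgroup_dvd_card _))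
    rw [← Nat.card_congr (subgroupOfEquivOfLe h.lt.le).toEquiv]
    exact Nat.le_of_dvd Nat.card_pos (card_dvd_of_le hker)
  rw [← card_mul_relIndex h.lt.le] at h1
  exact absurd (Nat.le_of_mul_le_mul_left h1 Nat.card_pos) (h.card_lt le_rfl hc).not_ge

end Cfsg.Agent.Lib.OneNonlinear
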