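import Cfsg.Agent.Lib.OneNonlinear.Main
import Cfsg.Agent.Lib.OddCond.Basic

/-!
S4805 granted the solvability of groups of odd order.
-/

set_option autoImplicit false

namespace Cfsg.Agent.Lib.OneNonlinear

universe u

variable {G : Type u} [Group G] [Finite G]

/-- All conclusions of S4805, granted the odd order theorem. -/
theorem of_oddSolvable (hodd : OddCond.OddSolvable.{u}) (g : G) (hgc : g ∉ Subgroup.center G)
    (χ : Cfsg.IrrCharacter G) (hχ1 : Cfsg.charDegree (χ : G → ℂ) ≠ 1) (hχg : (χ : G → ℂ) g ≠ 0)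
    (hother : ∀ ψ : Cfsg.IrrCharacter G, Cfsg.charDegree (ψ : G → ℂ) ≠ 1 → ψ ≠ χ →
      (ψ : G → ℂ) g = 0) :
    g ∈ commutator G ∧
    (χ : G → ℂ) g = -(((commutator G).index : ℂ) / (χ : G → ℂ) 1) ∧
    ((commutator G : Set G) = {x : G | (χ : G → ℂ) x = (χ : G → ℂ) 1} ∪ {h : G | IsConj g h}) ∧
    (∀ x : G, x ∉ commutator G → (χ : G → ℂ) x = 0) ∧
    (∀ ψ : Cfsg.IrrCharacter G, Cfsg.charDegree (ψ : G → ℂ) ≠ 1 →
      (∀ x : G, (χ : G → ℂ) x = (χ : G → ℂ) 1 → (ψ : G → ℂ) x = (ψ : G → ℂ) 1) → ψ = χ) ∧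
    Group.IsSolvable G := by
  obtain ⟨h1, h2, h3, h4, h5, K, hK⟩ := facts g hgc χ hχ1 hχg hother
  exact ⟨h1, h2, h3, h4, h5, hK.isSolvable fun H hH => hodd H hH⟩

end Cfsg.Agent.Lib.OneNonlinear
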