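import Mathlib
import Cfsg.Prelude.Def_Transfer
import Cfsg.Agent.Lib.OneNonlinear.ClassTwo
import Cfsg.Agent.Lib.PGroup.Critical
import Cfsg.Agent.Lib.Transfer.Criteria
import Cfsg.Agent.Lib.Coprime.ThompsonFull
import Cfsg.Agent.Lib.Fusion.Tate
import Cfsg.Agent.Lib.Chars.Completeness

/-!
Groups in which a normal subgroup `K ≤ G'` has `G' ∖ K` a single conjugacy class and `G / K`
has centre inside `G'`: `G' / K` is elementary abelian and `G` is solvable.
-/

set_option autoImplicit false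

namespace Cfsg.Agent.Lib.OneNonlinear

open Subgroup
open scoped commutatorElement Pointwise

universe u

variable {G : Type u} [Group G] [Finite G]

/-- The hypotheses. -/
structure Pair (K : Subgroup G) (g : G) : Prop where
  norK : K.Normal
  leK : K ≤ commutator G
  mem : g ∈ commutator G
  notMem : g ∉ K
  cls : ∀ x ∈ commutator G, x ∉ K → IsConj g x
  cen : ∀ z : G, (∀ x : G, ⁅x, z⁆ ∈ K) → z ∈ commutator G

variable {K : Subgroup G} {g : G}

theorem Pair.isConj (h : Pair K g) {x y : G} (hx : x ∈ commutator G) (hxK : x ∉ K)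
    (hy : y ∈ commutator G) (hyK : y ∉ K) : IsConj x y :=
  (h.cls x hx hxK).symm.trans (h.cls y hy hyK)

/-- The hypotheses pass to quotients. -/
theorem Pair.map (h : Pair K g) {H : Type u} [Group H] [Finite H] (f : G →* H)
    (hf : Function.Surjective f) (hker : f.ker ≤ K) : Pair (K.map f) (f g) := by
  have hmem : ∀ x, f x ∈ K.map f → x ∈ K := by
    rintro x ⟨y, hy, hyx⟩
    have : y⁻¹ * x ∈ K := hker (by rw [MonoidHom.mem_ker, map_mul, map_inv, hyx, inv_mul_cancel])
    simpa using mul_mem hy this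
  have hcomm : (commutator G).map f = commutator H := by
    rw [_root_.commutator_def, _root_.commutator_def, map_commutator, map_top_of_surjective f hf]
  refine ⟨h.norK.map f hf, hcomm ▸ map_mono h.leK, hcomm ▸ mem_map_of_mem f h.mem,
    fun hg => h.notMem (hmem g hg), ?_, ?_⟩
  · rw [← hcomm]
    rintro _ ⟨x, hx, rfl⟩ hxK
    exact f.map_isConj (h.cls x hx fun hk => hxK (mem_map_of_mem f hk))
  · intro z hz
    obtain ⟨z, rfl⟩ := hf z
    rw [← hcomm]
    exact mem_map_of_mem f (h.cen z fun x => hmem _ (by rw [map_commutatorElement]; exact hz (f x)))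

/-- `G' / K` is an elementary abelian `r`-group. -/
theorem Pair.exists_prime (h : Pair K g) : ∃ r : ℕ, r.Prime ∧
    (∀ x ∈ commutator G, x ^ r ∈ K) ∧ ⁅commutator G, commutator G⁆ ≤ K := by
  haveI := h.norK
  obtain ⟨π, hπ⟩ : ∃ π, π = QuotientGroup.mk' K := ⟨_, rfl⟩
  have hπs : Function.Surjective π := hπ ▸ QuotientGroup.mk'_surjective K
  have hπ1 : ∀ {y}, π y = 1 ↔ y ∈ K := fun {y} => by rw [hπ]; exact QuotientGroup.eq_one_iff y
  have hne : π g ≠ 1 := fun h1 => h.notMem (hπ1.mp h1)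
  have hord : orderOf (π g) ≠ 1 := fun h1 => hne (orderOf_eq_one_iff.mp h1)
  obtain ⟨r, hr, hrd⟩ := Nat.exists_prime_and_dvd hord
  haveI : Fact r.Prime := ⟨hr⟩
  obtain ⟨c, hc⟩ := hrd
  have hsame : ∀ x ∈ commutator G, x ∉ K → orderOf (π x) = orderOf (π g) := by
    intro x hx hxK
    obtain ⟨a, ha⟩ := isConj_iff.mp (π.map_isConj (h.cls x hx hxK))
    rw [← ha]
    exact orderOf_injective (MulAut.conj a).toMonoidHom (MulAut.conj a).injective _
  have hordr : orderOf (π g) = r := by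
    have hc0 : c ≠ 0 := by rintro rfl; rw [mul_zero] at hc; exact (orderOf_pos (π g)).ne' hc
    have h2 : orderOf (π (g ^ c)) = r := by
      rw [map_pow, orderOf_pow, hc, Nat.gcd_eq_right (dvd_mul_left c r), Nat.mul_div_cancel _
        (Nat.pos_of_ne_zero hc0)]
    rw [← hsame (g ^ c) (pow_mem h.mem c) fun hk => hr.ne_one (by
      rw [← h2, hπ1.mpr hk, orderOf_one])]
    exact h2
  have hpow : ∀ x ∈ commutator G, x ^ r ∈ K := by
    intro x hx
    by_cases hxK : x ∈ K
    · exact pow_mem hxK r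
    · rw [← hπ1, map_pow, ← hordr, ← hsame x hx hxK, pow_orderOf_eq_one]
  refine ⟨r, hr, hpow, ?_⟩
  have hNp : IsPGroup r ((commutator G).map π) := by
    rintro ⟨_, x, hx, rfl⟩
    refine ⟨1, Subtype.ext ?_⟩
    rw [pow_one, coe_pow, coe_one]
    show π x ^ r = 1
    rw [← map_pow, hπ1]
    exact hpow x hx
  haveI : Nontrivial ((commutator G).map π) :=
    ⟨⟨⟨π g, mem_map_of_mem π h.mem⟩, 1, fun he => hne (congrArg Subtype.val he)⟩⟩
  haveI := hNp.center_nontrivial
  obtain ⟨⟨⟨_, z, hz, rfl⟩, hzc⟩, hz1⟩ :=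
    exists_ne (1 : center ((commutator G).map π))
  have hzK : z ∉ K := fun hk => hz1 (Subtype.ext (Subtype.ext (hπ1.mpr hk)))
  rw [← QuotientGroup.ker_mk' K, ← Subgroup.map_eq_bot_iff, ← hπ, map_commutator,
    commutator_eq_bot_iff_le_centralizer]
  rintro _ ⟨x, hx, rfl⟩
  rw [mem_centralizer_iff]
  rintro _ ⟨y, hy, rfl⟩
  by_cases hxK : x ∈ K
  · rw [hπ1.mpr hxK, one_mul, mul_one]
  obtain ⟨a, ha⟩ := isConj_iff.mp (π.map_isConj (h.isConj hz hzK hx hxK))
  obtain ⟨a', rfl⟩ := hπs a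
  have hy' : π (a'⁻¹ * y * a') ∈ (commutator G).map π := by
    refine mem_map_of_mem π ?_
    have hn : (commutator G).Normal := inferInstance
    simpa using hn.conj_mem y hy a'⁻¹
  have hcom : π (a'⁻¹ * y * a') * π z = π z * π (a'⁻¹ * y * a') :=
    congrArg Subtype.val (mem_center_iff.mp hzc ⟨_, hy'⟩)
  rw [map_mul, map_mul, map_inv] at hcom
  rw [← ha]
  calc π y * (π a' * π z * (π a')⁻¹) = π a' * ((π a')⁻¹ * π y * π a' * π z) * (π a')⁻¹ := by group
    _ = π a' * π z * (π a')⁻¹ * π y := by rw [hcom]; group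

/-- A class in `G' ∖ K` fixed modulo `K` by a Sylow subgroup meets it in a full coset. -/
theorem Pair.coset (h : Pair K g) {r : ℕ} [Fact r.Prime] (P : Sylow r G) {x : G}
    (hxP : x ∈ (P : Subgroup G)) (hx : x ∈ commutator G) (hxK : x ∉ K)
    (hfix : ∀ y ∈ (P : Subgroup G), ⁅y, x⁆ ∈ K) :
    ∀ n ∈ (P : Subgroup G) ⊓ K, ∃ a ∈ (P : Subgroup G), a * x * a⁻¹ = x * n := by
  haveI := h.norK
  have hset : {y : G | IsConj x y} = (commutator G : Set G) \ (K : Set G) := by
    ext y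
    constructor
    · intro hy
      obtain ⟨c, rfl⟩ := isConj_iff.mp hy
      have hn : (commutator G).Normal := inferInstance
      exact ⟨hn.conj_mem x hx c, fun hk => hxK (by simpa [mul_assoc] using h.norK.conj_mem _ hk c⁻¹)⟩
    · exact fun hy => h.isConj hx hxK hy.1 hy.2
  have hdvd : Nat.card K ∣ (centralizer ({x} : Set G)).index := by
    rw [← Chars.card_conjClass_eq_index, show Nat.card {y : G // IsConj x y} = {y : G | IsConj x y}.ncard
      from (Nat.card_coe_set_eq _), hset, Set.ncard_sdiff h.leK, ← Nat.card_coe_set_eq,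
      ← Nat.card_coe_set_eq]
    exact Nat.dvd_sub (card_dvd_of_le h.leK) dvd_rfl
  obtain ⟨C, hC⟩ : ∃ C, C = (P : Subgroup G) ⊓ centralizer ({x} : Set G) := ⟨_, rfl⟩
  have hle : Nat.card C * Nat.card ((P : Subgroup G) ⊓ K : Subgroup G) ≤ Nat.card P := by
    obtain ⟨a, ha⟩ := IsPGroup.iff_card.mp (P.2.to_le (hC ▸ inf_le_left : C ≤ P))
    obtain ⟨b, hb⟩ := IsPGroup.iff_card.mp (P.2.to_le (inf_le_left : (P : Subgroup G) ⊓ K ≤ P))
    have hd : Nat.card C * Nat.card ((P : Subgroup G) ⊓ K : Subgroup G) ∣ Nat.card G := by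
      rw [← card_mul_index (centralizer ({x} : Set G))]
      exact mul_dvd_mul (card_dvd_of_le (hC ▸ inf_le_right))
        ((card_dvd_of_le inf_le_right).trans hdvd)
    rw [ha, hb, ← pow_add] at hd ⊢
    exact Nat.le_of_dvd Nat.card_pos (P.pow_dvd_card_of_pow_dvd_card hd)
  have hmem : ∀ y : (P : Subgroup G), x⁻¹ * ((y : G) * x * (y : G)⁻¹) ∈ (P : Subgroup G) ⊓ K := by
    intro y
    refine mem_inf.mpr ⟨mul_mem (inv_mem hxP) (mul_mem (mul_mem y.2 hxP) (inv_mem y.2)), ?_⟩
    have := h.norK.conj_mem _ (hfix y y.2) x⁻¹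
    simpa [commutatorElement_def, mul_assoc] using this
  let φ : (P : Subgroup G) ⧸ C.subgroupOf (P : Subgroup G) → ((P : Subgroup G) ⊓ K : Subgroup G) :=
    Quotient.lift (fun y => ⟨_, hmem y⟩) fun a b hab => Subtype.ext (by
      have hab' : ((a⁻¹ * b : (P : Subgroup G)) : G) ∈ C :=
        mem_subgroupOf.mp (QuotientGroup.leftRel_apply.mp hab)
      rw [hC, mem_inf, mem_centralizer_singleton_iff, coe_mul, coe_inv] at hab'
      show x⁻¹ * ((a : G) * x * (a : G)⁻¹) = x⁻¹ * ((b : G) * x * (b : G)⁻¹)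
      congr 1
      calc (a : G) * x * (a : G)⁻¹ = (a : G) * (x * ((a : G)⁻¹ * b)) * (b : G)⁻¹ := by group
        _ = (a : G) * (((a : G)⁻¹ * b) * x) * (b : G)⁻¹ := by rw [hab'.2]
        _ = _ := by group)
  have hinj : Function.Injective φ := by
    intro a b hab
    induction a using Quotient.inductionOn with | h a => ?_
    induction b using Quotient.inductionOn with | h b => ?_
    have hab' : (a : G) * x * (a : G)⁻¹ = (b : G) * x * (b : G)⁻¹ :=
      mul_left_cancel (congrArg Subtype.val hab)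
    refine Quotient.sound (QuotientGroup.leftRel_apply.mpr (mem_subgroupOf.mpr ?_))
    rw [hC, mem_inf, mem_centralizer_singleton_iff, coe_mul, coe_inv]
    refine ⟨mul_mem (inv_mem a.2) b.2, ?_⟩
    calc (a : G)⁻¹ * b * x = (a : G)⁻¹ * ((b : G) * x * (b : G)⁻¹) * b := by group
      _ = (a : G)⁻¹ * ((a : G) * x * (a : G)⁻¹) * b := by rw [hab']
      _ = _ := by group
  have hbij : Function.Bijective φ := hinj.bijective_of_nat_card_le (by
    refine Nat.le_of_mul_le_mul_left ?_ (Nat.card_pos (α := C))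
    refine hle.trans (le_of_eq ?_)
    rw [← Subgroup.card_mul_index (C.subgroupOf (P : Subgroup G))]
    congr 1
    exact Nat.card_congr (subgroupOfEquivOfLe (hC ▸ inf_le_left)).toEquiv)
  intro n hn
  obtain ⟨y, hy⟩ := hbij.2 ⟨n, hn⟩
  induction y using Quotient.inductionOn with | h y => ?_
  refine ⟨y, y.2, ?_⟩
  have h1 : x⁻¹ * ((y : G) * x * (y : G)⁻¹) = n := congrArg Subtype.val hy
  rw [← h1, mul_inv_cancel_left]

/-- An element of `G' ∩ P` outside `K` fixed modulo `K` by a Sylow `r`-subgroup. -/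
theorem Pair.exists_fixed (h : Pair K g) {r : ℕ} [Fact r.Prime]
    (hpow : ∀ x ∈ commutator G, x ^ r ∈ K) (P : Sylow r G) :
    ∃ x ∈ (P : Subgroup G), x ∈ commutator G ∧ x ∉ K ∧ ∀ y ∈ (P : Subgroup G), ⁅y, x⁆ ∈ K := by
  haveI := h.norK
  obtain ⟨π, hπ⟩ : ∃ π, π = QuotientGroup.mk' K := ⟨_, rfl⟩
  have hπs : Function.Surjective π := hπ ▸ QuotientGroup.mk'_surjective K
  have hπ1 : ∀ {y}, π y = 1 ↔ y ∈ K := fun {y} => by rw [hπ]; exact QuotientGroup.eq_one_iff y
  let P' : Sylow r (G ⧸ K) := P.mapSurjective hπs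
  have hP' : (P' : Subgroup (G ⧸ K)) = (P : Subgroup G).map π := rfl
  haveI : ((commutator G).map π).Normal := Subgroup.Normal.map inferInstance π hπs
  have hNp : IsPGroup r ((commutator G).map π) := by
    rintro ⟨_, x, hx, rfl⟩
    refine ⟨1, Subtype.ext ?_⟩
    rw [pow_one, coe_pow, coe_one]
    show π x ^ r = 1
    rw [← map_pow, hπ1]
    exact hpow x hx
  have hle : (commutator G).map π ≤ P' := hNp.le_sylow_of_normal P'
  obtain ⟨z, hzN, hzc, hz1⟩ := Critical.exists_center_mem P'.2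
    (N := ((commutator G).map π).subgroupOf (P' : Subgroup (G ⧸ K))) (by
      intro hbot
      have hmem : (⟨π g, hle (mem_map_of_mem π h.mem)⟩ : (P' : Subgroup (G ⧸ K))) ∈
          ((commutator G).map π).subgroupOf (P' : Subgroup (G ⧸ K)) :=
        mem_subgroupOf.mpr (mem_map_of_mem π h.mem)
      rw [hbot, mem_bot, Subtype.ext_iff] at hmem
      exact h.notMem (hπ1.mp hmem))
  obtain ⟨p, hp, hpz⟩ : (z : G ⧸ K) ∈ (P : Subgroup G).map π := hP' ▸ z.2
  obtain ⟨n, hn, hnz⟩ := mem_subgroupOf.mp hzN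
  refine ⟨p, hp, ?_, ?_, ?_⟩
  · have : n⁻¹ * p ∈ K := hπ1.mp (by rw [map_mul, map_inv, hnz, hpz, inv_mul_cancel])
    simpa using mul_mem hn (h.leK this)
  · exact fun hk => hz1 (Subtype.ext (hpz ▸ hπ1.mpr hk))
  · intro y hy
    rw [← hπ1, map_commutatorElement, commutatorElement_eq_one_iff_mul_comm, hpz]
    exact congrArg Subtype.val (mem_center_iff.mp hzc ⟨π y, hP' ▸ mem_map_of_mem π hy⟩)

/-- `K` has a normal `r`-complement. -/
theorem Pair.hasNormalPComplement (h : Pair K g) {r : ℕ} [hr : Fact r.Prime]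
    (hpow : ∀ x ∈ commutator G, x ^ r ∈ K) : Cfsg.HasNormalPComplement r ↥K := by
  haveI := h.norK
  obtain ⟨P⟩ : Nonempty (Sylow r G) := inferInstance
  obtain ⟨x, hxP, hx, hxK, hfix⟩ := h.exists_fixed hpow P
  obtain ⟨X, hX⟩ : ∃ X, X = K ⊔ (P : Subgroup G) := ⟨_, rfl⟩
  have hPX : (P : Subgroup G) ≤ X := hX ▸ le_sup_right
  have hKX : K ≤ X := hX ▸ le_sup_left
  let PX : Sylow r X := P.subtype hPX
  have hq : IsPGroup r (X ⧸ K.subgroupOf X) := by
    refine P.2.of_surjective ((QuotientGroup.mk' (K.subgroupOf X)).comp (inclusion hPX)) fun y => ?_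
    obtain ⟨⟨a, ha⟩, rfl⟩ := QuotientGroup.mk'_surjective _ y
    obtain ⟨k, hk, b, hb, rfl⟩ : a ∈ (K : Set G) * ((P : Subgroup G) : Set G) := by
      rw [← normal_mul, ← hX]; exact ha
    refine ⟨⟨b, hb⟩, QuotientGroup.eq.mpr (mem_subgroupOf.mpr ?_)⟩
    show b⁻¹ * (k * b) ∈ K
    simpa [mul_assoc] using h.norK.conj_mem k hk b⁻¹
  have hres := Transfer.pResidual_le_of_isPGroup_quotient _ hq
  have hX' : Cfsg.HasNormalPComplement r X := by
    refine Transfer.hasNormalPComplement_of_le_frattini PX fun y hy => ?_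
    obtain ⟨hy1, hy2⟩ := mem_inf.mp hy
    obtain ⟨a, ha, hax⟩ := h.coset P hxP hx hxK hfix (y : G)
      (mem_inf.mpr ⟨hy2, mem_subgroupOf.mp (hres hy1)⟩)
    have hmem : y ∈ ⁅(PX : Subgroup X), (PX : Subgroup X)⁆ := by
      have hy' : y = ⁅(⟨x, hPX hxP⟩ : X)⁻¹, ⟨a, hPX ha⟩⁆ := Subtype.ext (by
        show (y : G) = x⁻¹ * a * x⁻¹⁻¹ * a⁻¹
        calc (y : G) = x⁻¹ * (x * y) := by group
          _ = _ := by rw [← hax]; group)
      rw [hy']
      exact commutator_mem_commutator (inv_mem (show (⟨x, hPX hxP⟩ : X) ∈ PX from hxP))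
        (show (⟨a, hPX ha⟩ : X) ∈ PX from ha)
    exact Fusion.commutator_le_frattini_map PX.2 hmem
  obtain ⟨Q⟩ : Nonempty (Sylow r K) := inferInstance
  rw [Transfer.hasNormalPComplement_iff_inf_eq_bot Q, eq_bot_iff]
  intro y hy
  obtain ⟨hy1, hy2⟩ := mem_inf.mp hy
  have hy3 : inclusion hKX y ∈ Cfsg.pResidual r X :=
    Transfer.map_pResidual_le (inclusion hKX) (mem_map_of_mem _ hy1)
  obtain ⟨R, hR⟩ := (Q.2.map (inclusion hKX)).exists_le_sylow
  have hy4 : inclusion hKX y ∈ Cfsg.pResidual r X ⊓ (R : Subgroup X) :=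
    mem_inf.mpr ⟨hy3, hR (mem_map_of_mem _ hy2)⟩
  rw [(Transfer.hasNormalPComplement_iff_inf_eq_bot R).mp hX', mem_bot] at hy4
  exact mem_bot.mpr (inclusion_injective hKX (hy4.trans (map_one _).symm))

/-- With `K` an `r`-group and `r` odd, `G'` satisfies the hypotheses of the class two lemma. -/
theorem Pair.setup (h : Pair K g) {r : ℕ} [hr : Fact r.Prime] (hr2 : r ≠ 2)
    (hpow : ∀ x ∈ commutator G, x ^ r ∈ K) (hab : ⁅commutator G, commutator G⁆ ≤ K)
    (hK : IsPGroup r K) : Setup r (commutator G) K := by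
  haveI := h.norK
  have hNp : IsPGroup r (commutator G) := by
    intro x
    obtain ⟨k, hk⟩ := hK ⟨(x : G) ^ r, hpow x x.2⟩
    refine ⟨k + 1, Subtype.ext ?_⟩
    rw [coe_pow, coe_one, pow_succ', pow_mul]
    exact congrArg Subtype.val hk
  obtain ⟨P⟩ : Nonempty (Sylow r G) := inferInstance
  have hNP : commutator G ≤ P := hNp.le_sylow_of_normal P
  obtain ⟨π, hπ⟩ : ∃ π, π = QuotientGroup.mk' K := ⟨_, rfl⟩
  have hπs : Function.Surjective π := hπ ▸ QuotientGroup.mk'_surjective K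
  have hπ1 : ∀ {y}, π y = 1 ↔ y ∈ K := fun {y} => by rw [hπ]; exact QuotientGroup.eq_one_iff y
  let M : Subgroup (G ⧸ K) := (commutator G).map π
  haveI hMn : M.Normal := Subgroup.Normal.map inferInstance π hπs
  have hMp : IsPGroup r M := hNp.map π
  have hMab : ∀ a ∈ M, ∀ b ∈ M, a * b = b * a := by
    rintro _ ⟨a, ha, rfl⟩ _ ⟨b, hb, rfl⟩
    rw [← commutatorElement_eq_one_iff_mul_comm, ← map_commutatorElement, hπ1]
    exact hab (commutator_mem_commutator ha hb)
  have hcommM : commutator (G ⧸ K) ≤ M := by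
    rw [_root_.commutator_def, ← map_top_of_surjective π hπs, ← map_commutator]
    exact le_rfl
  -- nontrivial elements of `M` are conjugate
  have hMconj : ∀ a ∈ M, a ≠ 1 → ∀ b ∈ M, b ≠ 1 → IsConj a b := by
    rintro _ ⟨a, ha, rfl⟩ ha1 _ ⟨b, hb, rfl⟩ hb1
    exact π.map_isConj (h.isConj ha (fun hk => ha1 (hπ1.mpr hk)) hb fun hk => hb1 (hπ1.mpr hk))
  have hfree := free_of_minimal M (hcommM.trans fun a ha => mem_centralizer_iff.mpr fun b hb =>
      hMab b hb a ha) (fun V hV hVM => by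
    by_cases hV1 : V = ⊥
    · exact Or.inl hV1
    obtain ⟨v, hv, hv1⟩ := V.bot_or_exists_ne_one.resolve_left hV1
    refine Or.inr (le_antisymm hVM fun b hb => ?_)
    by_cases hb1 : b = 1
    · exact hb1 ▸ one_mem V
    obtain ⟨c, rfl⟩ := isConj_iff.mp (hMconj v (hVM hv) hv1 b hb hb1)
    exact hV.conj_mem v hv c)
  -- the centre is trivial
  have hcen : ∀ z : G ⧸ K, (∀ x, x * z = z * x) → z = 1 := by
    intro z hz
    by_contra hz1
    obtain ⟨z, rfl⟩ := hπs z
    have hzN : z ∈ commutator G := h.cen z fun x => by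
      rw [← hπ1, map_commutatorElement, commutatorElement_eq_one_iff_mul_comm]
      exact hz (π x)
    have hz2 : π z * π z ≠ 1 := fun h2 => by
      have hr' : π z ^ r = 1 := by rw [← map_pow, hπ1]; exact hpow z hzN
      have hd := Nat.dvd_gcd (orderOf_dvd_of_pow_eq_one hr')
        (orderOf_dvd_of_pow_eq_one (show π z ^ 2 = 1 by rw [pow_two]; exact h2))
      rw [(Nat.coprime_primes hr.out Nat.prime_two).mpr hr2, Nat.dvd_one, orderOf_eq_one_iff] at hd
      exact hz1 hd
    obtain ⟨c, hc⟩ := isConj_iff.mp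
      (hMconj (π z) (mem_map_of_mem π hzN) hz1 (π z * π z)
        (mul_mem (mem_map_of_mem π hzN) (mem_map_of_mem π hzN)) hz2)
    rw [hz c, mul_inv_cancel_right] at hc
    exact hz1 (mul_eq_left.mp hc.symm)
  -- so some element acts without fixed points
  obtain ⟨a, ha⟩ : ∃ a : G ⧸ K, a ∉ centralizer (M : Set (G ⧸ K)) := by
    by_contra hcon
    push Not at hcon
    exact h.notMem (hπ1.mp (hcen (π g) fun x =>
      (mem_centralizer_iff.mp (hcon x) (π g) (mem_map_of_mem π h.mem)).symm))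
  obtain ⟨x₀, hx₀P, hx₀N, hx₀K, hx₀⟩ := h.exists_fixed hpow P
  have hPN : (P : Subgroup G) ≤ commutator G := by
    intro p hp
    have hpC : π p ∈ centralizer (M : Set (G ⧸ K)) := hfree (π p) (π x₀) (mem_map_of_mem π hx₀N)
      (fun h1 => hx₀K (hπ1.mp h1)) (by
        rw [← commutatorElement_eq_one_iff_mul_comm, ← map_commutatorElement, hπ1]
        exact hx₀ p hp)
    have hMC : M ≤ centralizer (M : Set (G ⧸ K)) := fun s hs =>
      mem_centralizer_iff.mpr fun b hb => hMab b hb s hs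
    let ψ : M → M := fun s => ⟨(s : G ⧸ K) * a * (s : G ⧸ K)⁻¹ * a⁻¹,
      hcommM (commutator_mem_commutator (mem_top _) (mem_top _))⟩
    have hψ : Function.Injective ψ := by
      intro s t hst
      have hst' : (s : G ⧸ K) * a * (s : G ⧸ K)⁻¹ = (t : G ⧸ K) * a * (t : G ⧸ K)⁻¹ :=
        mul_right_cancel (congrArg Subtype.val hst)
      by_contra hne
      refine ha (hfree a ((t : G ⧸ K)⁻¹ * s) (mul_mem (inv_mem t.2) s.2) (fun h1 => hne
        (Subtype.ext (inv_mul_eq_one.mp h1).symm)) ?_)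
      calc a * ((t : G ⧸ K)⁻¹ * s) = (t : G ⧸ K)⁻¹ * ((t : G ⧸ K) * a * (t : G ⧸ K)⁻¹) * s := by group
        _ = (t : G ⧸ K)⁻¹ * ((s : G ⧸ K) * a * (s : G ⧸ K)⁻¹) * s := by rw [hst']
        _ = _ := by group
    obtain ⟨s, hs⟩ := (Finite.injective_iff_surjective.mp hψ)
      ⟨⁅(π p)⁻¹, a⁆, hcommM (commutator_mem_commutator (mem_top _) (mem_top _))⟩
    have hs' : (s : G ⧸ K) * a * (s : G ⧸ K)⁻¹ * a⁻¹ = (π p)⁻¹ * a * (π p)⁻¹⁻¹ * a⁻¹ :=
      congrArg Subtype.val hs
    obtain ⟨q, hq⟩ : ∃ q, q = π p * s := ⟨_, rfl⟩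
    have hqC : q ∈ centralizer (M : Set (G ⧸ K)) := hq ▸ mul_mem hpC (hMC s.2)
    have hqa : q * a = a * q := by
      rw [hq]
      calc π p * s * a = π p * ((s : G ⧸ K) * a * (s : G ⧸ K)⁻¹ * a⁻¹) * a * s := by group
        _ = a * (π p * s) := by rw [hs']; group
    have hq1 : q = 1 := hcen q fun b => by
      have hc : ⁅q, b⁆ ∈ M := hcommM (commutator_mem_commutator (mem_top _) (mem_top _))
      have hn : ⁅b⁻¹, a⁆ ∈ M := hcommM (commutator_mem_commutator (mem_top _) (mem_top _))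
      have h1 := mem_centralizer_iff.mp hqC _ hn
      have key : a * ⁅q, b⁆ = ⁅q, b⁆ * a := by
        have e : a * b * a⁻¹ = b * ⁅b⁻¹, a⁆ := by simp only [commutatorElement_def]; group
        have hqc : a * q * a⁻¹ = q := by rw [← hqa, mul_inv_cancel_right]
        calc a * ⁅q, b⁆ = (a * q * a⁻¹) * (a * b * a⁻¹) * (a * q * a⁻¹)⁻¹ *
              (a * b * a⁻¹)⁻¹ * a := by simp only [commutatorElement_def]; group
          _ = q * b * (⁅b⁻¹, a⁆ * q⁻¹) * ⁅b⁻¹, a⁆⁻¹ * b⁻¹ * a := by rw [hqc, e]; group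
          _ = q * b * (q⁻¹ * ⁅b⁻¹, a⁆) * ⁅b⁻¹, a⁆⁻¹ * b⁻¹ * a := by
              rw [show ⁅b⁻¹, a⁆ * q⁻¹ = q⁻¹ * ⁅b⁻¹, a⁆ from
                (eq_inv_mul_iff_mul_eq.mpr (by rw [← mul_assoc, ← h1, mul_inv_cancel_right]))]
          _ = ⁅q, b⁆ * a := by simp only [commutatorElement_def]; group
      have h2 : ⁅q, b⁆ = 1 := by
        by_contra hne
        exact ha (hfree a _ hc hne key)
      exact (commutatorElement_eq_one_iff_mul_comm.mp h2).symm
    have hpM : π p ∈ M := by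
      rw [hq, mul_eq_one_iff_eq_inv] at hq1
      exact hq1 ▸ inv_mem s.2
    obtain ⟨n, hn, hnp⟩ := hpM
    have : n⁻¹ * p ∈ K := hπ1.mp (by rw [map_mul, map_inv, hnp, inv_mul_cancel])
    simpa using mul_mem hn (h.leK this)
  have hcoset : ∀ x ∈ commutator G, x ∉ K → ∀ n ∈ K, ∃ a ∈ commutator G, a * x * a⁻¹ = x * n := by
    intro x hx hxK n hn
    obtain ⟨b, hb, hbx⟩ := h.coset P (hNP hx) hx hxK
      (fun y hy => hab (commutator_mem_commutator (hPN hy) hx)) n
      (mem_inf.mpr ⟨hNP (h.leK hn), hn⟩)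
    exact ⟨b, hPN hb, hbx⟩
  refine ⟨inferInstance, h.norK, hNp, le_rfl, le_antisymm hab fun n hn => ?_,
    lt_of_le_of_ne h.leK fun he => h.notMem (he ▸ h.mem), hpow, hcoset,
    fun x hx hxK y hy hyK => h.isConj hx hxK hy hyK⟩
  obtain ⟨b, hb, hbx⟩ := hcoset g h.mem h.notMem n hn
  have e : n = ⁅g⁻¹, b⁆ := by
    calc n = g⁻¹ * (g * n) := by group
      _ = _ := by rw [← hbx, commutatorElement_def]; group
  rw [e]
  exact commutator_mem_commutator (inv_mem h.mem) hb

omit [Finite G] in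
theorem isSolvable_of_map_isPGroup [Finite G] {r : ℕ} [Fact r.Prime] (A B : Subgroup G) [A.Normal]
    (hA : Group.IsSolvable A) (hAB : A ≤ B) (hq : IsPGroup r (B.map (QuotientGroup.mk' A))) :
    Group.IsSolvable B := by
  haveI := hA
  haveI : Group.IsSolvable (B.map (QuotientGroup.mk' A)) := by
    haveI := hq.isNilpotent
    infer_instance
  refine Group.isSolvable_of_ker_le_range (inclusion hAB) ((QuotientGroup.mk' A).subgroupMap B)
    fun b hb => ?_
  have : (b : G) ∈ A := (QuotientGroup.eq_one_iff (b : G)).mp (congrArg Subtype.val hb)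
  exact ⟨⟨b, this⟩, rfl⟩

/-- `G` is solvable, granted the solvability of its subgroups of odd order. -/
theorem Pair.isSolvable (h : Pair K g)
    (hodd : ∀ H : Subgroup G, Odd (Nat.card H) → Group.IsSolvable H) : Group.IsSolvable G := by
  haveI := h.norK
  obtain ⟨r, hr, hpow, hab⟩ := h.exists_prime
  haveI : Fact r.Prime := ⟨hr⟩
  have hnpc := h.hasNormalPComplement hpow
  haveI hchar := Transfer.pResidual_characteristic (G := ↥K) (p := r)
  obtain ⟨O, hO⟩ : ∃ O, O = (Cfsg.pResidual r ↥K).map K.subtype := ⟨_, rfl⟩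
  haveI : O.Normal := hO ▸ inferInstance
  have hOK : O ≤ K := hO ▸ map_subtype_le _
  have hOcard : ¬ r ∣ Nat.card O := by
    rw [hO, card_map_of_injective K.subtype_injective]
    exact Transfer.hasNormalPComplement_iff.mp hnpc
  have hKq : IsPGroup r (K.map (QuotientGroup.mk' O)) := by
    intro y
    obtain ⟨x, hx, hxy⟩ := y.2
    obtain ⟨k, hk⟩ := Transfer.isPGroup_quotient_pResidual (G := ↥K) (p := r)
      (QuotientGroup.mk (⟨x, hx⟩ : K))
    rw [← QuotientGroup.mk_pow, QuotientGroup.eq_one_iff] at hk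
    refine ⟨k, Subtype.ext ?_⟩
    rw [coe_pow, coe_one, ← hxy, ← map_pow, QuotientGroup.mk'_apply, QuotientGroup.eq_one_iff, hO]
    exact ⟨_, hk, rfl⟩
  have hO' : Group.IsSolvable O := by
    by_cases hr2 : r = 2
    · subst hr2
      exact hodd O (Nat.odd_iff.mpr (Nat.two_dvd_ne_zero.mp hOcard))
    obtain ⟨π, hπ⟩ : ∃ π, π = QuotientGroup.mk' O := ⟨_, rfl⟩
    have hπs : Function.Surjective π := hπ ▸ QuotientGroup.mk'_surjective O
    have hπ1 : ∀ {y}, π y = 1 ↔ y ∈ O := fun {y} => by rw [hπ]; exact QuotientGroup.eq_one_iff y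
    have hq := h.map π hπs (by rw [hπ, QuotientGroup.ker_mk']; exact hOK)
    have hcomm : (commutator G).map π = commutator (G ⧸ O) := by
      rw [_root_.commutator_def, _root_.commutator_def, map_commutator, map_top_of_surjective π hπs]
    have hS := hq.setup (r := r) hr2 (by
        rw [← hcomm]
        rintro _ ⟨x, hx, rfl⟩
        rw [← map_pow]
        exact mem_map_of_mem π (hpow x hx))
      (by rw [← hcomm, ← map_commutator]; exact map_mono hab) (hπ ▸ hKq)
    obtain ⟨x', hx', hxK', hxr'⟩ := hS.exists_pow_eq_one hr2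
    rw [← hcomm] at hx'
    obtain ⟨x, hx, rfl⟩ := hx'
    rw [← map_pow, hπ1] at hxr'
    -- an element of order `r` outside `K`
    obtain ⟨y, hyx⟩ : ∃ y, y = x ^ Nat.card O := ⟨_, rfl⟩
    have hy : y ∈ commutator G := hyx ▸ pow_mem hx _
    have hyr : y ^ r = 1 := by
      rw [hyx, ← pow_mul, mul_comm, pow_mul]
      exact congrArg Subtype.val (pow_card_eq_one' (x := (⟨x ^ r, hxr'⟩ : O)))
    have hyK : y ∉ K := by
      intro hyK
      refine hxK' (mem_map_of_mem π ?_)
      obtain ⟨c, hc⟩ := Nat.exists_mul_mod_eq_one_of_coprime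
        ((hr.coprime_iff_not_dvd.mpr hOcard).symm) hr.one_lt
      have e : x ^ (Nat.card O * c) ∈ K := by rw [pow_mul, ← hyx]; exact pow_mem hyK c
      rw [← Nat.div_add_mod (Nat.card O * c) r, hc.2, pow_succ, pow_mul] at e
      exact (mul_mem_cancel_left (pow_mem (hpow x hx) _)).mp e
    haveI : Group.IsNilpotent O := by
      refine Coprime.isNilpotent_of_fixedPointFree' (MulAut.conjNormal y : MulAut O) (fun n hn => ?_)
        hr ?_
      · have h1 : y * (n : G) * y⁻¹ = n := congrArg Subtype.val hn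
        have hc : Commute y (n : G) := mul_inv_eq_iff_eq_mul.mp h1
        have hyn : (n : G) * y ∉ K := fun hk => hyK ((mul_mem_cancel_left (hOK n.2)).mp hk)
        obtain ⟨c, hc'⟩ := isConj_iff.mp (h.isConj hy hyK (mul_mem (h.leK (hOK n.2)) hy) hyn)
        have h2 : ((n : G) * y) ^ r = 1 := by rw [← hc', conj_pow, hyr]; group
        rw [hc.symm.mul_pow, hyr, mul_one] at h2
        have h3 : (n : O) ^ r = 1 := Subtype.ext (by rw [coe_pow, coe_one]; exact h2)
        exact orderOf_eq_one_iff.mp (Nat.eq_one_of_dvd_coprimes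
          (hr.coprime_iff_not_dvd.mpr hOcard) (orderOf_dvd_of_pow_eq_one h3) (orderOf_dvd_natCard n))
      · show (MulAut.conjNormal y : MulAut O) ^ r = 1
        rw [← map_pow, hyr, map_one]
    infer_instance
  have hK' : Group.IsSolvable K := isSolvable_of_map_isPGroup O K hO' hOK hKq
  haveI hN : Group.IsSolvable (commutator G) := by
    refine isSolvable_of_map_isPGroup (r := r) K (commutator G) hK' h.leK ?_
    intro y
    obtain ⟨x, hx, hxy⟩ := y.2
    refine ⟨1, Subtype.ext ?_⟩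
    rw [pow_one, coe_pow, coe_one, ← hxy, ← map_pow, QuotientGroup.mk'_apply,
      QuotientGroup.eq_one_iff]
    exact hpow x hx
  refine Group.isSolvable_of_ker_le_range (commutator G).subtype (Abelianization.of (G := G)) ?_
  rw [Subgroup.range_subtype]
  exact fun x hx => (QuotientGroup.eq_one_iff x).mp hx

end Cfsg.Agent.Lib.OneNonlinear
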