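import Mathlib
import Cfsg.Prelude.Def_Blocks
import Cfsg.Agent.Lib.CharsElem
import Cfsg.Agent.Lib.Chars.Ops
import Cfsg.Agent.Lib.OneNonlinear.Structure

/-!
Groups with an element outside the centre at which only one nonlinear irreducible character
does not vanish.
-/

set_option autoImplicit false

namespace Cfsg.Agent.Lib.OneNonlinear

open Subgroup
open Cfsg.Agent.Lib.Chars Cfsg.Agent.Lib.CharsElem
open scoped ComplexConjugate commutatorElement

universe u

variable {G : Type u} [Group G] [Finite G]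

theorem charDegree_eq_one_iff (ψ : Cfsg.IrrCharacter G) :
    Cfsg.charDegree (ψ : G → ℂ) = 1 ↔ (ψ : G → ℂ) 1 = 1 := by
  obtain ⟨n, hn⟩ := isCharacter_exists_degree (irr_isCharacter ψ)
  unfold Cfsg.charDegree
  simp [hn]

/-- The conclusions on characters, and the group-theoretic consequence. -/
theorem facts (g : G) (hgc : g ∉ Subgroup.center G) (χ : Cfsg.IrrCharacter G)
    (hχ1 : Cfsg.charDegree (χ : G → ℂ) ≠ 1) (hχg : (χ : G → ℂ) g ≠ 0)
    (hother : ∀ ψ : Cfsg.IrrCharacter G, Cfsg.charDegree (ψ : G → ℂ) ≠ 1 → ψ ≠ χ →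
      (ψ : G → ℂ) g = 0) :
    g ∈ commutator G ∧
    (χ : G → ℂ) g = -(((commutator G).index : ℂ) / (χ : G → ℂ) 1) ∧
    ((commutator G : Set G) = {x : G | (χ : G → ℂ) x = (χ : G → ℂ) 1} ∪ {h : G | IsConj g h}) ∧
    (∀ x : G, x ∉ commutator G → (χ : G → ℂ) x = 0) ∧
    (∀ ψ : Cfsg.IrrCharacter G, Cfsg.charDegree (ψ : G → ℂ) ≠ 1 →
      (∀ x : G, (χ : G → ℂ) x = (χ : G → ℂ) 1 → (ψ : G → ℂ) x = (ψ : G → ℂ) 1) → ψ = χ) ∧
    ∃ K : Subgroup G, Pair K g := by
  classical
  cases nonempty_fintype G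
  obtain ⟨d, hd⟩ := isCharacter_exists_degree (irr_isCharacter χ)
  have hd0 : (d : ℂ) ≠ 0 := hd ▸ irr_apply_one_ne_zero χ
  obtain ⟨Lin, hLin⟩ : ∃ S : Finset (Cfsg.IrrCharacter G),
      S = Finset.univ.filter (fun ψ : Cfsg.IrrCharacter G => (ψ : G → ℂ) 1 = 1) := ⟨_, rfl⟩
  have hχLin : χ ∉ Lin := by
    rw [hLin, Finset.mem_filter]
    exact fun hm => hχ1 ((charDegree_eq_one_iff χ).mpr hm.2)
  -- column sums at `g`
  have hsplit : ∀ x : G, ∑ ψ : Cfsg.IrrCharacter G, (ψ : G → ℂ) g * conj ((ψ : G → ℂ) x) =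
      (∑ ψ ∈ Lin, (ψ : G → ℂ) g * conj ((ψ : G → ℂ) x)) +
        (χ : G → ℂ) g * conj ((χ : G → ℂ) x) := by
    intro x
    rw [← Finset.sum_subset (Finset.subset_univ (insert χ Lin)), Finset.sum_insert hχLin, add_comm]
    intro ψ _ hψ
    rw [Finset.mem_insert, hLin, Finset.mem_filter] at hψ
    rw [hother ψ (fun h1 => hψ (Or.inr ⟨Finset.mem_univ _, (charDegree_eq_one_iff ψ).mp h1⟩))
      (fun h1 => hψ (Or.inl h1)), zero_mul]
  have hlin0 : ∀ x : G, x ∉ commutator G → ∑ ψ ∈ Lin, (ψ : G → ℂ) x = 0 := by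
    intro x hx
    obtain ⟨φ, hφ⟩ : ∃ φ : G →* ℂˣ, φ x ≠ 1 := by
      have hne : Abelianization.of x ≠ 1 := fun h1 => hx ((QuotientGroup.eq_one_iff x).mp h1)
      obtain ⟨φ, hφ⟩ := CommGroup.exists_apply_ne_one_of_hasEnoughRootsOfUnity
        (Abelianization G) ℂ hne
      exact ⟨φ.comp Abelianization.of, hφ⟩
    let e : (G →* ℂˣ) ≃ {ψ : Cfsg.IrrCharacter G // (ψ : G → ℂ) 1 = 1} := Chars.linearEquivHom
    haveI : Finite (G →* ℂˣ) := Finite.of_equiv _ e.symm
    haveI := Fintype.ofFinite (G →* ℂˣ)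
    have hs : ∑ ψ ∈ Lin, (ψ : G → ℂ) x = ∑ f : G →* ℂˣ, ((f x : ℂˣ) : ℂ) := by
      rw [Finset.sum_subtype Lin (p := fun ψ : Cfsg.IrrCharacter G => (ψ : G → ℂ) 1 = 1)
        (fun ψ => by simp [hLin]), ← e.sum_comp]
      rfl
    rw [hs]
    have hmul : ((φ x : ℂˣ) : ℂ) * ∑ f : G →* ℂˣ, ((f x : ℂˣ) : ℂ) =
        ∑ f : G →* ℂˣ, ((f x : ℂˣ) : ℂ) := by
      rw [Finset.mul_sum]
      exact Fintype.sum_equiv (Equiv.mulLeft φ) _ _ fun f => by simp
    by_contra hne
    exact hφ (Units.ext ((mul_eq_right₀ hne).mp hmul))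
  have hlinle : ∀ x ∈ commutator G, ∀ ψ ∈ Lin, (ψ : G → ℂ) x = 1 := fun x hx ψ hψ => by
    rw [hLin, Finset.mem_filter] at hψ
    exact eq_one_of_mem_commutator (irr_isCharacter ψ) hψ.2 hx
  have hcard : (Lin.card : ℂ) = ((commutator G).index : ℂ) := by
    rw [← card_linear_irr, hLin, Nat.card_eq_fintype_card, Fintype.card_subtype]
  have hg : g ∈ commutator G := by
    by_contra hg
    have h0 := column_orthogonality_of_not_isConj (g := g) (h := 1) (fun hc => hg (by
      obtain ⟨c, hc⟩ := isConj_iff.mp hc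
      rw [conj_eq_one_iff] at hc
      rw [hc]
      exact one_mem _))
    rw [hsplit, Finset.sum_congr rfl (g := fun ψ : Cfsg.IrrCharacter G => (ψ : G → ℂ) g)
      (fun ψ hψ => by rw [hlinle 1 (one_mem _) ψ hψ, map_one, mul_one]), hlin0 g hg, zero_add,
      hd, Complex.conj_natCast] at h0
    exact mul_ne_zero hχg hd0 h0
  have hcol : ∀ x : G, ¬ IsConj g x → ((commutator G).index : ℂ) * 0 +
      ((∑ ψ ∈ Lin, conj ((ψ : G → ℂ) x)) + (χ : G → ℂ) g * conj ((χ : G → ℂ) x)) = 0 := by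
    intro x hx
    rw [mul_zero, zero_add]
    have h0 := column_orthogonality_of_not_isConj (g := g) (h := x) hx
    rw [hsplit, Finset.sum_congr rfl (fun ψ hψ => by rw [hlinle g hg ψ hψ, one_mul])] at h0
    exact h0
  have hidx0 : ((commutator G).index : ℂ) ≠ 0 := Nat.cast_ne_zero.mpr index_ne_zero_of_finite
  have hsum : ∀ x ∈ commutator G, ∑ ψ ∈ Lin, conj ((ψ : G → ℂ) x) = ((commutator G).index : ℂ) := by
    intro x hx
    rw [Finset.sum_congr rfl (g := fun _ => (1 : ℂ))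
      (fun ψ hψ => by rw [hlinle x hx ψ hψ, map_one]), Finset.sum_const, nsmul_one, hcard]
  have hnc1 : ¬ IsConj g 1 := fun hc => hgc (by
    obtain ⟨c, hc⟩ := isConj_iff.mp hc
    rw [conj_eq_one_iff] at hc
    rw [hc]
    exact one_mem _)
  have h1 := hcol 1 hnc1
  rw [mul_zero, zero_add, hsum 1 (one_mem _), hd, Complex.conj_natCast] at h1
  have hval : (χ : G → ℂ) g = -(((commutator G).index : ℂ) / (χ : G → ℂ) 1) := by
    rw [hd, ← neg_div, eq_div_iff hd0]
    exact eq_neg_of_add_eq_zero_right h1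
  have hout : ∀ x : G, x ∉ commutator G → (χ : G → ℂ) x = 0 := by
    intro x hx
    have hnc : ¬ IsConj g x := fun hc => hx (by
      obtain ⟨c, rfl⟩ := isConj_iff.mp hc
      exact (inferInstance : (commutator G).Normal).conj_mem g hg c)
    have h2 := hcol x hnc
    rw [mul_zero, zero_add, ← map_sum, hlin0 x hx, map_zero, zero_add] at h2
    exact (map_eq_zero (starRingEnd ℂ)).mp ((mul_eq_zero.mp h2).resolve_left hχg)
  have hin : ∀ x ∈ commutator G, ¬ IsConj g x → (χ : G → ℂ) x = (χ : G → ℂ) 1 := by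
    intro x hx hnc
    have h2 := hcol x hnc
    rw [mul_zero, zero_add, hsum x hx] at h2
    have h3 : (χ : G → ℂ) g * conj ((χ : G → ℂ) x) = (χ : G → ℂ) g * (d : ℂ) :=
      add_left_cancel (h2.trans h1.symm)
    rw [hd, ← Complex.conj_conj ((χ : G → ℂ) x), mul_left_cancel₀ hχg h3, Complex.conj_natCast]
  have hgd : (χ : G → ℂ) g ≠ (χ : G → ℂ) 1 := by
    intro he
    rw [he, hd] at h1
    have : (commutator G).index + d * d = 0 := by exact_mod_cast h1
    exact index_ne_zero_of_finite (H := commutator G) (by omega)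
  have hconjval : ∀ x : G, IsConj g x → (χ : G → ℂ) x = (χ : G → ℂ) g := fun x hc =>
    isClassFunction_apply_eq (irr_isClassFunction χ) hc
  have hker : ∀ x : G, (χ : G → ℂ) x = (χ : G → ℂ) 1 → x ∈ commutator G := fun x hx => by
    by_contra hxN
    exact irr_apply_one_ne_zero χ (hx ▸ hout x hxN)
  refine ⟨hg, hval, ?_, hout, ?_, ?_⟩
  · ext x
    constructor
    · intro hx
      by_cases hc : IsConj g x
      · exact Or.inr hc
      · exact Or.inl (hin x hx hc)
    · rintro (hx | hx)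
      · exact hker x hx
      · obtain ⟨c, rfl⟩ := isConj_iff.mp hx
        exact (inferInstance : (commutator G).Normal).conj_mem g hg c
  · intro ψ hψ1 hψker
    by_contra hne
    have hψg := hother ψ hψ1 hne
    have h0 := classInner_irr_of_ne hne
    rw [classInner, mul_eq_zero] at h0
    have h2 := h0.resolve_left (inv_ne_zero natCard_ne_zero)
    have hterm : ∀ x : G, (ψ : G → ℂ) x * conj ((χ : G → ℂ) x) =
        if (χ : G → ℂ) x = (χ : G → ℂ) 1 then (ψ : G → ℂ) 1 * (d : ℂ) else 0 := by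
      intro x
      by_cases hx : (χ : G → ℂ) x = (χ : G → ℂ) 1
      · rw [if_pos hx, hψker x hx, hx, hd, Complex.conj_natCast]
      rw [if_neg hx]
      by_cases hxN : x ∈ commutator G
      · have hc : IsConj g x := by
          by_contra hc
          exact hx (hin x hxN hc)
        rw [isClassFunction_apply_eq (irr_isClassFunction ψ) hc, hψg, zero_mul]
      · rw [hout x hxN, map_zero, mul_zero]
    rw [Finset.sum_congr rfl (fun x _ => hterm x), Finset.sum_ite, Finset.sum_const_zero, add_zero,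
      Finset.sum_const, nsmul_eq_mul] at h2
    refine mul_ne_zero (Nat.cast_ne_zero.mpr (Finset.card_pos.mpr ⟨1, ?_⟩).ne')
      (mul_ne_zero (irr_apply_one_ne_zero ψ) hd0) h2
    simp
  · obtain ⟨n, ρ, hρ, hρχ⟩ := χ.2
    have hmem : ∀ x : G, x ∈ ρ.ker ↔ (χ : G → ℂ) x = (χ : G → ℂ) 1 := fun x => by
      rw [MonoidHom.mem_ker, rep_eq_one_iff, hρχ]
    refine ⟨ρ.ker, inferInstance, fun x hx => hker x ((hmem x).mp hx), hg,
      fun hk => hgd ((hmem g).mp hk), fun x hx hxK => ?_, fun z hz => ?_⟩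
    · by_contra hc
      exact hxK ((hmem x).mpr (hin x hx hc))
    · by_contra hzN
      haveI := hρ
      obtain ⟨c, hc⟩ := exists_scalar_of_commute ρ (ρ z) (fun x => by
        rw [← Module.End.mul_eq_comp, ← Module.End.mul_eq_comp, ← map_mul, ← map_mul]
        have h' : ρ ⁅x, z⁆ = 1 := MonoidHom.mem_ker.mp (hz x)
        have e : x * z = ⁅x, z⁆ * (z * x) := by rw [commutatorElement_def]; group
        rw [e, map_mul ρ ⁅x, z⁆, h', one_mul])
      have hc0 : c ≠ 0 := by
        intro hc0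
        rw [hc0, zero_smul] at hc
        have h1' : ρ (z * z⁻¹) = 0 := by rw [map_mul, hc, zero_mul]
        rw [mul_inv_cancel, map_one] at h1'
        have := congrArg (LinearMap.trace ℂ _) h1'
        rw [map_zero, ← map_one ρ] at this
        exact hd0 (by rw [← hd, ← hρχ]; exact this)
      have hz' : (χ : G → ℂ) z = c * (d : ℂ) := by
        rw [← hd, ← hρχ, ρ.char_one, Representation.character, hc, map_smul, LinearMap.trace_one,
          smul_eq_mul]
      rw [hout z hzN] at hz'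
      exact mul_ne_zero hc0 hd0 hz'.symm

end Cfsg.Agent.Lib.OneNonlinear
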